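import Cfsg.Agent.Lib.M24Pres.Data.Facts0
import Cfsg.Agent.Lib.M24Pres.Data.Facts1
import Cfsg.Agent.Lib.M24Pres.Data.Facts2
import Cfsg.Agent.Lib.M24Pres.Data.Facts3
import Cfsg.Agent.Lib.M24Pres.Data.Facts4
import Cfsg.Agent.Lib.M24Pres.Data.Facts5
import Cfsg.Agent.Lib.M24Pres.Data.Facts6
import Cfsg.Agent.Lib.M24Pres.Data.Facts7
import Cfsg.Agent.Lib.M24Pres.Data.Facts8
import Cfsg.Agent.Lib.M24Pres.Data.Facts9
import Cfsg.Agent.Lib.M24Pres.Data.Facts10

/-! Facts of the coset table: all blocks (generated by tools/j4/m24side/gen.py). -/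

set_option autoImplicit false

namespace Cfsg.Agent.M24Pres.Data

noncomputable section

def facts : Store :=
  .node (.node (.node (.node (.node (.node (.node (.leaf facts0) (.leaf facts64)) (.leaf facts32)) (.node (.node (.leaf facts16) (.leaf facts80)) (.leaf facts48))) (.node (.node (.node (.leaf facts8) (.leaf facts72)) (.leaf facts40)) (.node (.leaf facts24) (.leaf facts56)))) (.node (.node (.node (.node (.leaf facts4) (.leaf facts68)) (.leaf facts36)) (.node (.node (.leaf facts20) (.leaf facts84)) (.leaf facts52))) (.node (.node (.node (.leaf facts12) (.leaf facts76)) (.leaf facts44)) (.node (.leaf facts28) (.leaf facts60))))) (.node (.node (.node (.node (.node (.leaf facts2) (.leaf facts66)) (.leaf facts34)) (.node (.node (.leaf facts18) (.leaf facts82)) (.leaf facts50))) (.node (.node (.node (.leaf facts10) (.leaf facts74)) (.leaf facts42)) (.node (.leaf facts26) (.leaf facts58)))) (.node (.node (.node (.node (.leaf facts6) (.leaf facts70)) (.leaf facts38)) (.node (.leaf facts22) (.leaf facts54))) (.node (.node (.node (.leaf facts14) (.leaf facts78)) (.leaf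 facts46)) (.node (.leaf facts30) (.leaf facts62)))))) (.node (.node (.node (.node (.node (.node (.leaf facts1) (.leaf facts65)) (.leaf facts33)) (.node (.node (.leaf facts17) (.leaf facts81)) (.leaf facts49))) (.node (.node (.node (.leaf facts9) (.leaf facts73)) (.leaf facts41)) (.node (.leaf facts25) (.leaf facts57)))) (.node (.node (.node (.node (.leaf facts5) (.leaf facts69)) (.leaf facts37)) (.node (.leaf facts21) (.leaf facts53))) (.node (.node (.node (.leaf facts13) (.leaf facts77)) (.leaf facts45)) (.node (.leaf facts29) (.leaf facts61))))) (.node (.node (.node (.node (.node (.leaf facts3) (.leaf facts67)) (.leaf facts35)) (.node (.node (.leaf facts19) (.leaf facts83)) (.leaf facts51))) (.node (.node (.node (.leaf facts11) (.leaf facts75)) (.leaf facts43)) (.node (.leaf facts27) (.leaf facts59)))) (.node (.node (.node (.node (.leaf facts7) (.leaf facts71)) (.leaf facts39)) (.node (.leaf facts23) (.leaf facts55))) (.node (.node (.node (.leaf facts15) (.leaf facts79)) (.leaf facts47)) (.node (.leaf facts31) (.leaf facts63))))))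

end

end Cfsg.Agent.M24Pres.Data
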