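import Cfsg.Agent.Lib.M24Pres.Data.Roots0
import Cfsg.Agent.Lib.M24Pres.Data.Roots1
import Cfsg.Agent.Lib.M24Pres.Data.Roots2
import Cfsg.Agent.Lib.M24Pres.Data.Roots3

/-! Roots of the coset table: all blocks (generated by tools/j4/m24side/gen.py). -/

set_option autoImplicit false

namespace Cfsg.Agent.M24Pres.Data

noncomputable section

def roots : Store :=
  .node (.node (.node (.node (.node (.leaf roots0) (.leaf roots16)) (.node (.leaf roots8) (.leaf roots24))) (.node (.node (.leaf roots4) (.leaf roots20)) (.node (.leaf roots12) (.leaf roots28)))) (.node (.node (.node (.leaf roots2) (.leaf roots18)) (.node (.leaf roots10) (.leaf roots26))) (.node (.node (.leaf roots6) (.leaf roots22)) (.node (.leaf roots14) (.leaf roots30))))) (.node (.node (.node (.node (.leaf roots1) (.leaf roots17)) (.node (.leaf roots9) (.leaf roots25))) (.node (.node (.leaf roots5) (.leaf roots21)) (.node (.leaf roots13) (.leaf roots29)))) (.node (.node (.node (.leaf roots3) (.leaf roots19)) (.node (.leaf roots11) (.leaf roots27))) (.node (.node (.leaf roots7) (.leaf roots23)) (.node (.leaf roots15) (.leaf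 roots31)))))

end

end Cfsg.Agent.M24Pres.Data
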