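import Cfsg.Agent.Lib.M24Pres.Table
import Cfsg.Agent.Lib.M24Pres.Data.Log
import Cfsg.Agent.Lib.M24Pres.Data.Roots

/-! The table of roots (generated by tools/j4/m24side/gen.py). -/

set_option autoImplicit false
set_option maxRecDepth 100000

namespace Cfsg.Agent.M24Pres.Data

noncomputable section

def table : Table := ⟨theLog, 86574, 31878, roots, 100214687925038972864269207337098384, 274751280267584717587480409647719467⟩

end

end Cfsg.Agent.M24Pres.Data
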